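import Cfsg.Agent.Constrained.HallHigman
import Cfsg.Agent.Coprime.Sylow
import Cfsg.Agent.Constrained.Fitting

/-!
Minimal invariant `r`-subgroups of the `p'`-core on which a TI Sylow `p`-subgroup acts.
-/

set_option autoImplicit false

namespace CfsgLib.TISolvable

open Cfsg

variable {G : Type*} [Group G]

/-- In a `p`-solvable group with trivial `p`-core the centraliser of the `p'`-core lies in it. -/
theorem centralizer_pPrimeCore_le [Finite G] {p : ℕ} [Fact p.Prime] (h : IsPSolvable p G)
    (hO : pCore p G = ⊥) :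
    Subgroup.centralizer (pPrimeCore p G : Set G) ≤ pPrimeCore p G := by
  set C := Subgroup.centralizer (pPrimeCore p G : Set G) with hCdef
  haveI : C.Normal := Subgroup.normal_centralizer
  set Z := pPrimeCore p ↥C with hZ
  have hZc : Z ≤ Subgroup.center ↥C := by
    intro z hz
    rw [Subgroup.mem_center_iff]
    intro c
    apply Subtype.ext
    exact (Subgroup.mem_centralizer_iff.mp c.2 (z : G)
      (CfsgLib.Constrained.map_pPrimeCore_subgroup_le C ⟨z, hz, rfl⟩)).symm
  have hCO : pCore p ↥C = ⊥ := by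
    rw [CfsgLib.Constrained.pCore_subgroup_eq, hO, Subgroup.bot_subgroupOf]
  suffices htop : Z = ⊤ by
    intro c hc
    exact CfsgLib.Constrained.map_pPrimeCore_subgroup_le C
      ⟨⟨c, hc⟩, by rw [← hZ, htop]; exact Subgroup.mem_top _, rfl⟩
  by_contra hne
  haveI : Nontrivial (↥C ⧸ Z) := QuotientGroup.nontrivial_iff.mpr hne
  rcases CfsgLib.Constrained.IsPSolvable.core_ne_bot
    (CfsgLib.Constrained.IsPSolvable.quotient (CfsgLib.Constrained.IsPSolvable.subgroup h C) Z)
    with h' | h'
  swap
  · exact h' CfsgLib.Constrained.pPrimeCore_quotient_pPrimeCore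
  apply h'
  obtain ⟨T⟩ : Nonempty (Sylow p ↥(pPrimePCore p ↥C)) := inferInstance
  set U := (T : Subgroup ↥(pPrimePCore p ↥C)).map (pPrimePCore p ↥C).subtype with hU
  have hdec := CfsgLib.Constrained.pPrimeCore_sup_sylow_eq T
  have hTn : (T : Subgroup ↥(pPrimePCore p ↥C)).Normal := by
    rw [← Subgroup.normalizer_eq_top_iff, eq_top_iff]
    intro x _
    have hle : pPrimeCore p ↥C ⊔ U ≤ Subgroup.normalizer (U : Set ↥C) :=
      sup_le ((hZc.trans (Subgroup.center_le_centralizer _)).trans
        (Subgroup.centralizer_le_normalizer _)) Subgroup.le_normalizer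
    have hx := hle (hdec.ge x.2)
    rw [Subgroup.mem_normalizer_iff] at hx ⊢
    intro y
    have hiff : ∀ z : ↥(pPrimePCore p ↥C), (z : ↥C) ∈ U ↔ z ∈ (T : Subgroup ↥(pPrimePCore p ↥C)) := by
      intro z
      constructor
      · rintro ⟨w, hw, he⟩
        obtain rfl : w = z := Subtype.ext he
        exact hw
      · exact fun hz => ⟨z, hz, rfl⟩
    rw [← hiff, ← hiff]
    exact hx y
  have hUbot : U = ⊥ := by
    rw [← le_bot_iff, ← hCO]
    exact (Subgroup.map_mono (CfsgLib.Constrained.le_pCore hTn T.isPGroup')).trans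
      (CfsgLib.Constrained.map_pCore_subgroup_le _)
  rw [← CfsgLib.Constrained.map_pPrimePCore, ← hdec, ← hU, hUbot, sup_bot_eq,
    Subgroup.map_eq_bot_iff, QuotientGroup.ker_mk']

/-- A fixed-point lifting: if `x r x⁻¹ = r c` with `x` fixing `c` and the order of `c` prime to that
of `x`, then `x` commutes with `r`. -/
theorem commute_of_commute_twist [Finite G] {x r c : G} (h : x * r * x⁻¹ = r * c) (hc : x * c = c * x)
    (hcop : (orderOf x).Coprime (orderOf c)) : x * r = r * x := by
  have hpow : ∀ i : ℕ, x ^ i * r * (x ^ i)⁻¹ = r * c ^ i := by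
    intro i
    induction i with
    | zero => simp
    | succ i ih =>
      calc x ^ (i + 1) * r * (x ^ (i + 1))⁻¹ = x * (x ^ i * r * (x ^ i)⁻¹) * x⁻¹ := by
            rw [pow_succ']; group
        _ = (x * r * x⁻¹) * (x * c ^ i * x⁻¹) := by rw [ih]; group
        _ = (r * c) * (x * c ^ i * x⁻¹) := by rw [h]
        _ = r * c * c ^ i := by
            rw [show x * c ^ i = c ^ i * x from (Commute.pow_right hc i).eq, mul_inv_cancel_right]
        _ = r * c ^ (i + 1) := by rw [mul_assoc, pow_succ']
  have h1 := hpow (orderOf x)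
  rw [pow_orderOf_eq_one, one_mul, inv_one, mul_one, left_eq_mul] at h1
  have hc1 : c = 1 := orderOf_eq_one_iff.mp
    (Nat.eq_one_of_dvd_coprimes hcop (orderOf_dvd_of_pow_eq_one h1) dvd_rfl)
  rw [hc1, mul_one, mul_inv_eq_iff_eq_mul] at h
  exact h

end CfsgLib.TISolvable
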